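import Mathlib

/-! Finite groups in which every element of 2-power order centralises a Sylow 2-subgroup
have abelian Sylow 2-subgroups (elementary proof). -/

set_option autoImplicit false

open scoped Pointwise

namespace CfsgLib.OddClassTwo

variable {G : Type*} [Group G]

/-- Every element of 2-power order centralises some Sylow 2-subgroup. -/
def TwoCentralAll (G : Type*) [Group G] : Prop :=
  ∀ x : G, (∃ k : ℕ, orderOf x = 2 ^ k) →
    ∃ Q : Sylow 2 G, (Q : Subgroup G) ≤ Subgroup.centralizer ({x} : Set G)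

theorem two_pow_order_of_mem (P : Sylow 2 G) {x : G} (hx : x ∈ (P : Subgroup G)) :
    ∃ k : ℕ, orderOf x = 2 ^ k := by
  obtain ⟨k, hk⟩ := P.isPGroup' ⟨x, hx⟩
  have h : x ^ 2 ^ k = 1 := by simpa using congrArg Subtype.val hk
  obtain ⟨i, _, hi⟩ := (Nat.dvd_prime_pow Nat.prime_two).mp (orderOf_dvd_of_pow_eq_one h)
  exact ⟨i, hi⟩

theorem mem_of_normalizes (P : Sylow 2 G) {x : G} (hx : ∃ k : ℕ, orderOf x = 2 ^ k)
    (hn : x ∈ Subgroup.normalizer ((P : Subgroup G) : Set G)) : x ∈ (P : Subgroup G) := by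
  obtain ⟨k, hk⟩ := hx
  have hz : IsPGroup 2 (Subgroup.zpowers x) :=
    IsPGroup.of_card (n := k) (by rw [Nat.card_zpowers, hk])
  have hsup := hz.to_sup_of_normal_right' P.isPGroup' (by simpa using hn)
  have heq := P.is_maximal' hsup le_sup_right
  exact heq ▸ Subgroup.mem_sup_left (Subgroup.mem_zpowers x)

theorem mem_smul_iff' (g : G) (P : Sylow 2 G) (x : G) :
    x ∈ ((g • P : Sylow 2 G) : Subgroup G) ↔ g⁻¹ * x * g ∈ (P : Subgroup G) := by
  rw [Sylow.coe_subgroup_smul, Subgroup.mem_pointwise_smul_iff_inv_smul_mem]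
  simp [MulAut.smul_def]

/-- `x` is central in the Sylow subgroup `R`. -/
def CentralIn (R : Sylow 2 G) (x : G) : Prop :=
  x ∈ (R : Subgroup G) ∧ ∀ r ∈ (R : Subgroup G), r * x = x * r

variable [Finite G]

theorem centralIn_conj (H : TwoCentralAll G) (R : Sylow 2 G) {x : G}
    (hx : ∃ k : ℕ, orderOf x = 2 ^ k) : ∃ g : G, CentralIn R (g * x * g⁻¹) := by
  obtain ⟨Q, hQ⟩ := H x hx
  obtain ⟨g, hg⟩ := MulAction.exists_smul_eq G Q R
  have hcomm : ∀ q ∈ (Q : Subgroup G), q * x = x * q := fun q hq =>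
    Subgroup.mem_centralizer_singleton_iff.mp (hQ hq)
  have hxQ : x ∈ (Q : Subgroup G) := by
    refine mem_of_normalizes Q hx ?_
    rw [Subgroup.mem_normalizer_iff]
    intro h
    constructor
    · intro hh
      have : x * h * x⁻¹ = h := by rw [← hcomm h hh]; group
      rw [this]; exact hh
    · intro hh
      have h1 := hcomm _ hh
      have : h = x * h * x⁻¹ := by
        calc h = x⁻¹ * ((x * h * x⁻¹) * x) := by group
          _ = x⁻¹ * (x * (x * h * x⁻¹)) := by rw [h1]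
          _ = x * h * x⁻¹ := by group
      rw [this]; exact hh
  subst hg
  refine ⟨g, ?_, fun r hr => ?_⟩
  · rw [mem_smul_iff']; simpa [mul_assoc] using hxQ
  · rw [mem_smul_iff'] at hr
    have h1 := hcomm _ hr
    calc r * (g * x * g⁻¹) = g * ((g⁻¹ * r * g) * x) * g⁻¹ := by group
      _ = g * (x * (g⁻¹ * r * g)) * g⁻¹ := by rw [h1]
      _ = g * x * g⁻¹ * r := by group

theorem burnside (R : Sylow 2 G) {a b g : G} (ha : CentralIn R a) (hb : CentralIn R b)
    (h : g⁻¹ * a * g = b) :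
    ∃ n ∈ Subgroup.normalizer ((R : Subgroup G) : Set G), n⁻¹ * a * n = b := by
  have hca : a ∈ Subgroup.centralizer ((R : Subgroup G) : Set G) :=
    Subgroup.mem_centralizer_iff.mpr ha.2
  have hcb : g⁻¹ * a * g ∈ Subgroup.centralizer ((R : Subgroup G) : Set G) := by
    rw [h]; exact Subgroup.mem_centralizer_iff.mpr hb.2
  obtain ⟨n, hn, he⟩ := R.conj_eq_normalizer_conj_of_mem_centralizer a g hca hcb
  exact ⟨n, hn, by rw [← he, h]⟩

theorem centralIn_conj_norm (R : Sylow 2 G) {a n : G} (ha : CentralIn R a)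
    (hn : n ∈ Subgroup.normalizer ((R : Subgroup G) : Set G)) :
    CentralIn R (n * a * n⁻¹) := by
  have hn' := Subgroup.mem_normalizer_iff.mp hn
  refine ⟨(hn' a).mp ha.1, fun r hr => ?_⟩
  have hr' : n⁻¹ * r * n ∈ (R : Subgroup G) := by
    rw [hn' (n⁻¹ * r * n)]
    simpa [mul_assoc] using hr
  have h1 := ha.2 _ hr'
  calc r * (n * a * n⁻¹) = n * ((n⁻¹ * r * n) * a) * n⁻¹ := by group
    _ = n * (a * (n⁻¹ * r * n)) * n⁻¹ := by rw [h1]
    _ = n * a * n⁻¹ * r := by group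

theorem sq_eq_one_of_inverted (R : Sylow 2 G) {z n : G} (hz : CentralIn R z)
    (hn : n ∈ Subgroup.normalizer ((R : Subgroup G) : Set G)) (hi : n⁻¹ * z * n = z⁻¹) :
    z * z = 1 := by
  obtain ⟨k, o, ho, hko⟩ := Nat.exists_eq_pow_mul_and_not_dvd
    (orderOf_pos n).ne' 2 (by norm_num)
  have hi' : ∀ j : ℕ, n⁻¹ ^ (2 * j) * z * n ^ (2 * j) = z := by
    have h2 : n⁻¹ * z⁻¹ * n = z := by
      have := congrArg (·⁻¹) hi
      simpa [mul_assoc] using this
    intro j
    induction j with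
    | zero => simp
    | succ j ih =>
      calc n⁻¹ ^ (2 * (j + 1)) * z * n ^ (2 * (j + 1))
          = n⁻¹ * (n⁻¹ * (n⁻¹ ^ (2 * j) * z * n ^ (2 * j)) * n) * n := by
            rw [show 2 * (j + 1) = (2 * j + 1) + 1 by ring]
            rw [pow_succ', pow_succ', pow_succ n, pow_succ n]
            group
        _ = z := by rw [ih, hi, h2]
  obtain ⟨j, hj⟩ : Odd o := Nat.not_even_iff_odd.mp (fun he => ho (even_iff_two_dvd.mp he))
  have hm : n ^ o ∈ (R : Subgroup G) := by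
    refine mem_of_normalizes R ?_ (pow_mem hn o)
    have : (n ^ o) ^ 2 ^ k = 1 := by
      rw [← pow_mul, mul_comm, ← hko, pow_orderOf_eq_one]
    obtain ⟨i, _, hi⟩ := (Nat.dvd_prime_pow Nat.prime_two).mp (orderOf_dvd_of_pow_eq_one this)
    exact ⟨i, hi⟩
  have hcz : (n ^ o)⁻¹ * z * n ^ o = z := by
    rw [mul_assoc, ← hz.2 _ hm]; group
  have hinv : (n ^ o)⁻¹ * z * n ^ o = z⁻¹ := by
    rw [hj, ← inv_pow, pow_succ', pow_succ]
    calc n⁻¹ * n⁻¹ ^ (2 * j) * z * (n ^ (2 * j) * n)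
        = n⁻¹ * (n⁻¹ ^ (2 * j) * z * n ^ (2 * j)) * n := by group
      _ = z⁻¹ := by rw [hi', hi]
  rw [hcz] at hinv
  nth_rewrite 2 [hinv]
  exact mul_inv_cancel z

theorem involutions_commute (H : TwoCentralAll G) (P : Sylow 2 G) {a b : G}
    (ha : a ∈ (P : Subgroup G)) (hb : b ∈ (P : Subgroup G)) (ha2 : a * a = 1) (hb2 : b * b = 1) :
    a * b = b * a := by
  obtain ⟨g, hg⟩ := centralIn_conj H P (two_pow_order_of_mem P (mul_mem ha hb))
  have ha' : a⁻¹ = a := inv_eq_of_mul_eq_one_right ha2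
  have hb' : b⁻¹ = b := inv_eq_of_mul_eq_one_right hb2
  have hrev : (a * b)⁻¹ = b * a := by rw [mul_inv_rev, ha', hb']
  have hz' : CentralIn P (g * (a * b) * g⁻¹)⁻¹ := by
    refine ⟨inv_mem hg.1, fun r hr => ?_⟩
    exact (Commute.inv_right (show Commute r _ from hg.2 r hr)).eq
  have hconj : (g * a * g⁻¹)⁻¹ * (g * (a * b) * g⁻¹) * (g * a * g⁻¹) = (g * (a * b) * g⁻¹)⁻¹ := by
    have h1 : a⁻¹ * (a * b) * a = b * a := by group
    calc (g * a * g⁻¹)⁻¹ * (g * (a * b) * g⁻¹) * (g * a * g⁻¹)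
        = g * (a⁻¹ * (a * b) * a) * g⁻¹ := by group
      _ = g * (a * b)⁻¹ * g⁻¹ := by rw [h1, hrev]
      _ = (g * (a * b) * g⁻¹)⁻¹ := by group
  obtain ⟨n, hn, hne⟩ := burnside P hg hz' hconj
  have hsq := sq_eq_one_of_inverted P hg hn hne
  have h2 : (a * b) * (a * b) = 1 := by
    have h3 : g * ((a * b) * (a * b)) * g⁻¹ = 1 := by rw [← hsq]; group
    exact conj_eq_one_iff.mp h3
  calc a * b = (a * b)⁻¹ := (inv_eq_of_mul_eq_one_right h2).symm
    _ = b * a := hrev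

theorem involution_mem (P R : Sylow 2 G)
    (hsub : ∀ e ∈ (P : Subgroup G), e * e = 1 → e ∈ (R : Subgroup G)) {d : G}
    (hd : d ∈ (R : Subgroup G)) (hd2 : d * d = 1) : d ∈ (P : Subgroup G) := by
  classical
  obtain ⟨g, hg⟩ := MulAction.exists_smul_eq G R P
  let SR : Set G := {x | x ∈ (R : Subgroup G) ∧ x * x = 1}
  let SP : Set G := {x | x ∈ (P : Subgroup G) ∧ x * x = 1}
  have hPR : SP ⊆ SR := fun x hx => ⟨hsub x hx.1 hx.2, hx.2⟩
  have hle : SR.ncard ≤ SP.ncard := by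
    refine Set.ncard_le_ncard_of_injOn (fun x => g * x * g⁻¹) ?_ ?_ (Set.toFinite _)
    · intro x hx
      refine ⟨?_, ?_⟩
      · rw [← hg, mem_smul_iff']
        simpa [mul_assoc] using hx.1
      · calc (g * x * g⁻¹) * (g * x * g⁻¹) = g * (x * x) * g⁻¹ := by group
          _ = 1 := by rw [hx.2]; group
    · intro x _ y _ hxy
      simpa using hxy
  have heq := Set.eq_of_subset_of_ncard_le hPR hle (Set.toFinite _)
  have : d ∈ SP := by rw [heq]; exact ⟨hd, hd2⟩
  exact this.1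

theorem sylow_in_centralizer (H : TwoCentralAll G) (P : Sylow 2 G) {w : G}
    (hw : w ∈ (P : Subgroup G)) :
    ∃ R : Sylow 2 G, (∀ r ∈ (R : Subgroup G), r * w = w * r) ∧
      ∀ y ∈ (P : Subgroup G), y * w = w * y → y ∈ (R : Subgroup G) := by
  obtain ⟨Q, hQ⟩ := H w (two_pow_order_of_mem P hw)
  let C := Subgroup.centralizer ({w} : Set G)
  let Q' : Sylow 2 C := Q.subtype hQ
  have hS : IsPGroup 2 ((P : Subgroup G).subgroupOf C) :=
    P.isPGroup'.comap_subtype
  obtain ⟨T, hT⟩ := hS.exists_le_sylow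
  obtain ⟨c, hc⟩ := MulAction.exists_smul_eq C Q' T
  refine ⟨(c : G) • Q, fun r hr => ?_, fun y hy hyw => ?_⟩
  · have : ((c : G) • Q : Sylow 2 G) ≤ C := Sylow.smul_le hQ c
    exact Subgroup.mem_centralizer_singleton_iff.mp (this hr)
  · have hyC : y ∈ C := Subgroup.mem_centralizer_singleton_iff.mpr hyw
    have h1 : (⟨y, hyC⟩ : C) ∈ (T : Subgroup C) := hT (by simpa [Subgroup.mem_subgroupOf] using hy)
    rw [← hc, mem_smul_iff'] at h1
    rw [mem_smul_iff']
    simpa [Q', Subgroup.mem_subgroupOf] using h1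

theorem root_split (H : TwoCentralAll G) (P : Sylow 2 G) {x : G} (hx : x ∈ (P : Subgroup G))
    (he : ∀ e ∈ (P : Subgroup G), e * e = 1 → Commute e (x * x)) :
    ∃ x' d : G, x = x' * d ∧ d ∈ (P : Subgroup G) ∧ d * d = 1 ∧
      ∀ y ∈ (P : Subgroup G), Commute y (x * x) → Commute y x' := by
  obtain ⟨R, hRw, hPR⟩ := sylow_in_centralizer H P (mul_mem hx hx)
  have hxR : x ∈ (R : Subgroup G) := hPR x hx (by group)
  have hwR : CentralIn R (x * x) := ⟨mul_mem hxR hxR, hRw⟩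
  obtain ⟨g, hg⟩ := centralIn_conj H R (two_pow_order_of_mem R hxR)
  have hw1 : CentralIn R ((g * x * g⁻¹) * (g * x * g⁻¹)) :=
    ⟨mul_mem hg.1 hg.1, fun r hr =>
      (Commute.mul_right (show Commute r _ from hg.2 r hr) (hg.2 r hr)).eq⟩
  obtain ⟨n, hn, hne⟩ := burnside R hwR hw1 (g := g⁻¹) (by group)
  have hx' : CentralIn R (n * (g * x * g⁻¹) * n⁻¹) := centralIn_conj_norm R hg hn
  have hsq : (n * (g * x * g⁻¹) * n⁻¹) * (n * (g * x * g⁻¹) * n⁻¹) = x * x := by
    calc _ = n * ((g * x * g⁻¹) * (g * x * g⁻¹)) * n⁻¹ := by group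
      _ = n * (n⁻¹ * (x * x) * n) * n⁻¹ := by rw [hne]
      _ = x * x := by group
  generalize hx'' : n * (g * x * g⁻¹) * n⁻¹ = x' at hx' hsq
  have hcomm : Commute x x' := hx'.2 x hxR
  have hd2 : (x'⁻¹ * x) * (x'⁻¹ * x) = 1 := by
    have h1 : Commute x x'⁻¹ := hcomm.inv_right
    calc (x'⁻¹ * x) * (x'⁻¹ * x) = x'⁻¹ * (x * x'⁻¹) * x := by group
      _ = x'⁻¹ * (x'⁻¹ * x) * x := by rw [h1.eq]
      _ = (x' * x')⁻¹ * (x * x) := by group
      _ = 1 := by rw [hsq]; group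
  refine ⟨x', x'⁻¹ * x, by group, ?_, hd2, fun y hy hyw => hx'.2 y (hPR y hy hyw.eq)⟩
  exact involution_mem P R (fun e he' he2 => hPR e he' (he e he' he2).eq)
    (mul_mem (inv_mem hx'.1) hxR) hd2

theorem commute_of_fix (H : TwoCentralAll G) (P : Sylow 2 G) :
    ∀ k : ℕ, ∀ x ∈ (P : Subgroup G), x ^ 2 ^ k = 1 →
      (∀ e ∈ (P : Subgroup G), e * e = 1 → Commute e x) →
      ∀ y ∈ (P : Subgroup G), (∀ e ∈ (P : Subgroup G), e * e = 1 → Commute e y) →
        Commute x y := by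
  intro k
  induction k with
  | zero =>
    intro x _ hx1 _ y _ _
    rw [pow_zero, pow_one] at hx1
    rw [hx1]; exact Commute.one_left y
  | succ k ih =>
    intro x hx hxk hxe y hy hye
    have hwe : ∀ e ∈ (P : Subgroup G), e * e = 1 → Commute e (x * x) := fun e he he2 =>
      (hxe e he he2).mul_right (hxe e he he2)
    have hwk : (x * x) ^ 2 ^ k = 1 := by
      rw [← sq, ← pow_mul, ← pow_succ']; exact hxk
    have hwy : Commute (x * x) y := ih _ (mul_mem hx hx) hwk hwe y hy hye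
    obtain ⟨x', d, hxd, hd, hd2, hx'⟩ := root_split H P hx hwe
    rw [hxd]
    exact ((hx' y hy hwy.symm).symm).mul_left (hye d hd hd2)

theorem commute_involution (H : TwoCentralAll G) (P : Sylow 2 G) :
    ∀ k : ℕ, ∀ x ∈ (P : Subgroup G), x ^ 2 ^ k = 1 →
      ∀ e ∈ (P : Subgroup G), e * e = 1 → Commute e x := by
  intro k
  induction k with
  | zero =>
    intro x _ hx1 e _ _
    rw [pow_zero, pow_one] at hx1
    rw [hx1]; exact Commute.one_right e
  | succ k ih =>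
    intro x hx hxk e he he2
    have hwk : (x * x) ^ 2 ^ k = 1 := by
      rw [← sq, ← pow_mul, ← pow_succ']; exact hxk
    have hwe := ih _ (mul_mem hx hx) hwk
    obtain ⟨x', d, hxd, hd, hd2, hx'⟩ := root_split H P hx hwe
    rw [hxd]
    exact (hx' e he (hwe e he he2)).mul_right (involutions_commute H P he hd he2 hd2)

theorem sylow_commutative (H : TwoCentralAll G) (P : Sylow 2 G) :
    IsMulCommutative (P : Subgroup G) := by
  have hfix : ∀ x ∈ (P : Subgroup G), ∃ k : ℕ, x ^ 2 ^ k = 1 := fun x hx => by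
    obtain ⟨k, hk⟩ := two_pow_order_of_mem P hx
    exact ⟨k, hk ▸ pow_orderOf_eq_one x⟩
  refine ⟨⟨fun a b => ?_⟩⟩
  obtain ⟨ka, hka⟩ := hfix a a.2
  obtain ⟨kb, hkb⟩ := hfix b b.2
  exact Subtype.ext (commute_of_fix H P ka a a.2 hka (commute_involution H P ka a a.2 hka) b b.2
    (commute_involution H P kb b b.2 hkb)).eq

end CfsgLib.OddClassTwo
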